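/-
Two coprime non-linear degrees force the derived series to descend.
-/
import Cfsg.Agent.Lib.Char.TwoDegrees
import Cfsg.Agent.S0168

set_option linter.unusedSectionVars false
set_option linter.style.haveILetI false

namespace Cfsg.Agent.ThreeDeg

open Cfsg Cfsg.Agent.Char Cfsg.Agent.Blocks Cfsg.Agent.TwoDegrees

open scoped ComplexConjugate commutatorElement

universe u v

variable {G : Type u} [Group G] [Fintype G]

/-- Every irreducible degree is one, `m` or `n`. -/
def CD3 (G : Type u) [Group G] (m n : ℕ) : Prop :=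
  ∀ χ : IrrCharacter G, charDegree (χ : G → ℂ) = 1 ∨ charDegree (χ : G → ℂ) = m ∨
    charDegree (χ : G → ℂ) = n

theorem CD3.swap {m n : ℕ} (h : CD3 G m n) : CD3 G n m := fun χ => (h χ).imp_right Or.symm

theorem CD3.quot {m n : ℕ} (h : CD3 G m n) (N : Subgroup G) [N.Normal] [Fintype (G ⧸ N)] :
    CD3 (G ⧸ N) m n := by
  intro χ
  have h' := h ⟨_, IsIrrCharacter.comp χ.2 (QuotientGroup.mk' N) (QuotientGroup.mk'_surjective N)⟩
  simpa [charDegree] using h'

/-- The constituents of a product of characters of coprime degrees `a` and `b` have all the same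
degree. -/
theorem pure_or {a b : ℕ} (ha : 1 < a) (hb : 1 < b) (hab : a.Coprime b) (hcd : CD3 G a b)
    (χ ψ : IrrCharacter G) (hχ : charDegree (χ : G → ℂ) = a)
    (hψ : charDegree (ψ : G → ℂ) = b) :
    (∀ ξ : IrrCharacter G, classInner ((χ : G → ℂ) * (ψ : G → ℂ)) (ξ : G → ℂ) ≠ 0 →
        charDegree (ξ : G → ℂ) = a) ∨
      ∀ ξ : IrrCharacter G, classInner ((χ : G → ℂ) * (ψ : G → ℂ)) (ξ : G → ℂ) ≠ 0 →
        charDegree (ξ : G → ℂ) = b := by
  classical
  have hne : a ≠ b := fun h => by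
    subst h
    exact absurd ((Nat.coprime_self a).1 hab) (by omega)
  have hpc : IsCharacter G ((χ : G → ℂ) * (ψ : G → ℂ)) :=
    IsCharacter.mul (irr_isCharacter χ) (irr_isCharacter ψ)
  -- no linear constituent
  have hlin : ∀ ξ : IrrCharacter G, classInner ((χ : G → ℂ) * (ψ : G → ℂ)) (ξ : G → ℂ) ≠ 0 →
      charDegree (ξ : G → ℂ) ≠ 1 := by
    intro ξ hξ hd
    obtain ⟨l, hl⟩ := exists_hom_of_degree_one (irr_isCharacter ξ)
      (by rw [irr_one_eq_charDegree, hd, Nat.cast_one])
    have hirr := ChiefRestrict.isIrr_mul_linear (IsIrrCharacter.conj χ.2) l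
    have he : classInner (ψ : G → ℂ) (fun g => (l g : ℂ) * conj ((χ : G → ℂ) g)) =
        classInner ((χ : G → ℂ) * (ψ : G → ℂ)) (ξ : G → ℂ) := by
      simp only [classInner, hl, Pi.mul_apply, map_mul, Complex.conj_conj]
      congr 1
      exact Finset.sum_congr rfl fun g _ => by ring
    rw [← he, classInner_irr ψ.2 hirr] at hξ
    split_ifs at hξ with e
    · have h1 := congrFun e 1
      rw [irr_one_eq_charDegree, hψ, map_one, Units.val_one, one_mul, irr_one_eq_charDegree, hχ,
        map_natCast, Nat.cast_inj] at h1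
      exact hne h1.symm
    · exact hξ rfl
  obtain ⟨k, hk⟩ := IsCharacter.exists_decomp hpc
  have hci : ∀ ξ : IrrCharacter G, classInner ((χ : G → ℂ) * (ψ : G → ℂ)) (ξ : G → ℂ) = (k ξ : ℂ) := by
    intro ξ
    rw [hk, classInner_combination]
  simp only [hci, Nat.cast_ne_zero] at hlin ⊢
  have hsum : a * b = ∑ ξ, k ξ * charDegree (ξ : G → ℂ) := by
    have h1 := congrFun hk 1
    simp only [Pi.mul_apply, irr_one_eq_charDegree, hχ, hψ, Finset.sum_apply, Pi.smul_apply,
      smul_eq_mul] at h1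
    exact_mod_cast h1
  set s : Finset (IrrCharacter G) := Finset.univ.filter fun ξ => charDegree (ξ : G → ℂ) = a
  rw [← Finset.sum_add_sum_compl s] at hsum
  have hs1 : ∑ ξ ∈ s, k ξ * charDegree (ξ : G → ℂ) = (∑ ξ ∈ s, k ξ) * a := by
    rw [Finset.sum_mul]
    refine Finset.sum_congr rfl fun ξ hξ => ?_
    rw [(Finset.mem_filter.1 hξ).2]
  have hs2 : ∑ ξ ∈ sᶜ, k ξ * charDegree (ξ : G → ℂ) = (∑ ξ ∈ sᶜ, k ξ) * b := by
    rw [Finset.sum_mul]
    refine Finset.sum_congr rfl fun ξ hξ => ?_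
    rcases eq_or_ne (k ξ) 0 with h0 | h0
    · simp [h0]
    have hξa : charDegree (ξ : G → ℂ) ≠ a := fun e =>
      Finset.mem_compl.1 hξ (Finset.mem_filter.2 ⟨Finset.mem_univ _, e⟩)
    rw [((hcd ξ).resolve_left (hlin ξ h0)).resolve_left hξa]
  rw [hs1, hs2] at hsum
  set x := ∑ ξ ∈ s, k ξ with hx
  set y := ∑ ξ ∈ sᶜ, k ξ with hy
  have hby : b ∣ x := by
    refine hab.symm.dvd_of_dvd_mul_right ?_
    exact (Nat.dvd_add_left (dvd_mul_left b y)).1 (hsum ▸ dvd_mul_left b a)
  have hax : a ∣ y := by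
    refine hab.dvd_of_dvd_mul_right ?_
    exact (Nat.dvd_add_right (dvd_mul_left a x)).1 (hsum ▸ dvd_mul_right a b)
  obtain ⟨x', hx'⟩ := hby
  obtain ⟨y', hy'⟩ := hax
  rw [hx', hy'] at hsum
  have h1 : x' + y' = 1 := by
    refine Nat.eq_of_mul_eq_mul_left (show 0 < a * b by positivity) ?_
    rw [mul_one, mul_add]
    calc a * b * x' + a * b * y' = b * x' * a + a * y' * b := by ring
      _ = a * b := hsum.symm
  rcases Nat.eq_zero_or_pos x' with h0 | h0
  · right
    intro ξ hξ
    refine ((hcd ξ).resolve_left (hlin ξ hξ)).resolve_left fun e => hξ ?_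
    have hx0 : x = 0 := by rw [hx', h0, mul_zero]
    exact Finset.sum_eq_zero_iff.1 (hx ▸ hx0) ξ (Finset.mem_filter.2 ⟨Finset.mem_univ _, e⟩)
  · left
    intro ξ hξ
    by_contra e
    have hy0 : y = 0 := by rw [hy', show y' = 0 by omega, mul_zero]
    exact hξ (Finset.sum_eq_zero_iff.1 (hy ▸ hy0) ξ
      (Finset.mem_compl.2 fun h => e (Finset.mem_filter.1 h).2))

/-- A faithful character of degree `a` cannot keep the constituents of the products in degree
`b`. -/
theorem no_pure {a b : ℕ} (ha : 1 < a) (hb : 1 < b) (hab : a.Coprime b) (hcd : CD3 G a b)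
    (hZ : Subgroup.center G = ⊥) (χ ψ : IrrCharacter G) (hχ : charDegree (χ : G → ℂ) = a)
    (hfaith : ∀ g : G, (χ : G → ℂ) g = (χ : G → ℂ) 1 → g = 1)
    (hψ : charDegree (ψ : G → ℂ) = b)
    (hpure : ∀ ξ : IrrCharacter G, classInner ((χ : G → ℂ) * (ψ : G → ℂ)) (ξ : G → ℂ) ≠ 0 →
      charDegree (ξ : G → ℂ) = b) : False := by
  classical
  have hne : a ≠ b := fun h => by
    subst h
    exact absurd ((Nat.coprime_self a).1 hab) (by omega)
  set χb : G → ℂ := fun g => conj ((χ : G → ℂ) g) with hχb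
  have hχbirr : IsIrrCharacter G χb := IsIrrCharacter.conj χ.2
  have hχbdeg : charDegree ((⟨χb, hχbirr⟩ : IrrCharacter G) : G → ℂ) = a := deg_eq (by
    show conj ((χ : G → ℂ) 1) = _
    rw [irr_one_eq_charDegree, hχ, map_natCast])
  let P : IrrCharacter G → Prop := fun ζ => charDegree (ζ : G → ℂ) = b ∧
    ∀ ξ : IrrCharacter G, classInner ((χ : G → ℂ) * (ζ : G → ℂ)) (ξ : G → ℂ) ≠ 0 →
      charDegree (ξ : G → ℂ) = b
  have hadj : ∀ α β γ : G → ℂ, classInner ((fun g => conj (α g)) * β) γ =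
      conj (classInner (α * γ) β) := by
    intro α β γ
    simp only [classInner, Pi.mul_apply, map_mul, map_inv₀, map_natCast, map_sum,
      Complex.conj_conj]
    congr 1
    exact Finset.sum_congr rfl fun g _ => by ring
  set θ : G → ℂ := χb * (χ : G → ℂ) with hθdef
  have hθc : IsCharacter G θ :=
    IsCharacter.mul (IsIrrCharacter.isCharacter hχbirr) (irr_isCharacter χ)
  have hstep : ∀ ζ, P ζ → ∀ ζ' : IrrCharacter G,
      classInner (θ * (ζ : G → ℂ)) (ζ' : G → ℂ) ≠ 0 → P ζ' := by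
    intro ζ hζ ζ' hζ'
    obtain ⟨k, hk⟩ := IsCharacter.exists_decomp
      (IsCharacter.mul (irr_isCharacter χ) (irr_isCharacter ζ))
    have he : θ * (ζ : G → ℂ) = ∑ ξ, (k ξ : ℂ) • (χb * (ξ : G → ℂ)) := by
      rw [hθdef, mul_assoc, hk, Finset.mul_sum]
      exact Finset.sum_congr rfl fun ξ _ => mul_smul_comm _ _ _
    rw [he, classInner_sum_left] at hζ'
    obtain ⟨ξ, -, hξ⟩ := Finset.exists_ne_zero_of_sum_ne_zero hζ'
    rw [classInner_smul_left, mul_ne_zero_iff] at hξ
    have hξd : charDegree (ξ : G → ℂ) = b := hζ.2 ξ (by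
      rw [hk, classInner_combination]; exact hξ.1)
    have hback : classInner (χb * (ξ : G → ℂ)) (ζ : G → ℂ) ≠ 0 := by
      rw [hadj, hk, classInner_combination]
      simpa using hξ.1
    have hζ'd : charDegree (ζ' : G → ℂ) = b := by
      rcases pure_or ha hb hab hcd ⟨χb, hχbirr⟩ ξ hχbdeg hξd with h | h
      · exact absurd (hζ.1.symm.trans (h ζ hback)) hne.symm
      · exact h ζ' hξ.2
    refine ⟨hζ'd, ?_⟩
    rcases pure_or ha hb hab hcd χ ζ' hχ hζ'd with h | h
    · refine absurd (hξd.symm.trans (h ξ ?_)) hne.symm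
      have := hξ.2
      rw [hadj] at this
      simpa using this
    · exact h
  have hind : ∀ i : ℕ, ∀ ζ : IrrCharacter G,
      classInner (θ ^ i * (ψ : G → ℂ)) (ζ : G → ℂ) ≠ 0 → P ζ ∧
        IsCharacter G (θ ^ i * (ψ : G → ℂ)) := by
    intro i
    have hc : ∀ i : ℕ, IsCharacter G (θ ^ i * (ψ : G → ℂ)) := by
      intro i
      induction i with
      | zero => rw [pow_zero, one_mul]; exact irr_isCharacter ψ
      | succ i ih => rw [pow_succ', mul_assoc]; exact IsCharacter.mul hθc ih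
    induction i with
    | zero =>
      intro ζ hζ
      refine ⟨?_, hc 0⟩
      rw [pow_zero, one_mul, classInner_irr ψ.2 ζ.2] at hζ
      split_ifs at hζ with e
      · rw [← Subtype.ext e]; exact ⟨hψ, hpure⟩
      · exact absurd rfl hζ
    | succ i ih =>
      intro ζ' hζ'
      refine ⟨?_, hc _⟩
      obtain ⟨k, hk⟩ := IsCharacter.exists_decomp (hc i)
      have he : θ ^ (i + 1) * (ψ : G → ℂ) = ∑ ζ, (k ζ : ℂ) • (θ * (ζ : G → ℂ)) := by
        rw [pow_succ', mul_assoc, hk, Finset.mul_sum]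
        exact Finset.sum_congr rfl fun ξ _ => mul_smul_comm _ _ _
      rw [he, classInner_sum_left] at hζ'
      obtain ⟨ζ, -, hζ⟩ := Finset.exists_ne_zero_of_sum_ne_zero hζ'
      rw [classInner_smul_left, mul_ne_zero_iff] at hζ
      exact hstep ζ (ih ζ (by rw [hk, classInner_combination]; exact hζ.1)).1 ζ' hζ.2
  -- the product of `χ` with its conjugate is faithful
  obtain ⟨n, ρ, hρ⟩ := hθc
  obtain ⟨n', σ, hσ⟩ := irr_isCharacter χ
  have hσinj : ∀ g : G, σ g = 1 → g = 1 := by
    intro g hg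
    refine hfaith g ?_
    simp only [← hσ, Representation.character, hg, map_one]
  have hρinj : Function.Injective ρ := by
    intro x y hxy
    rw [← mul_inv_eq_one]
    set z := x * y⁻¹
    have hz : ρ z = 1 := by
      rw [map_mul, hxy, ← map_mul, mul_inv_cancel, map_one]
    have hval : θ z = θ 1 := by
      simp only [← hρ, Representation.character, hz, map_one]
    have hnorm : ‖σ.character z‖ = Module.finrank ℂ (Fin n' → ℂ) := by
      have h1 : σ.character 1 = (Module.finrank ℂ (Fin n' → ℂ) : ℂ) := Representation.char_one σ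
      simp only [hθdef, hχb, Pi.mul_apply, ← hσ, h1, map_natCast] at hval
      rw [mul_comm, Complex.mul_conj', ← Complex.ofReal_pow] at hval
      have h2 : ‖σ.character z‖ ^ 2 = ((Module.finrank ℂ (Fin n' → ℂ) : ℕ) : ℝ) ^ 2 := by
        rw [pow_two ((_ : ℕ) : ℝ)]
        exact_mod_cast hval
      exact (sq_eq_sq₀ (norm_nonneg _) (Nat.cast_nonneg _)).1 h2
    obtain ⟨ω, hω⟩ := (norm_char_eq_iff σ z).1 hnorm
    have hzc : z ∈ Subgroup.center G := by
      rw [Subgroup.mem_center_iff]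
      intro g
      refine mul_inv_eq_one.1 (hσinj _ ?_)
      have e : σ (g * z) = σ (z * g) := by
        rw [map_mul σ g z, map_mul σ z g, hω, smul_mul_assoc, mul_smul_comm]
        rfl
      rw [map_mul σ, e, ← map_mul σ, mul_inv_cancel, map_one]
    rwa [hZ, Subgroup.mem_bot] at hzc
  obtain ⟨i, -, hi⟩ := Cfsg.Agent.S0168.result ρ hρinj (fun g => conj ((ψ : G → ℂ) g))
    (IsIrrCharacter.conj ψ.2)
  have hi' : classInner (θ ^ i * (ψ : G → ℂ)) (principal G : G → ℂ) ≠ 0 := by
    refine fun h => hi ?_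
    rw [← h]
    simp [classInner, principal, hρ]
  have h1 := (hind i (principal G) hi').1.1
  rw [show charDegree (principal G : G → ℂ) = 1 from deg_eq (by simp [principal])] at h1
  omega

/-- With two coprime non-linear degrees the derived subgroup is perfect only if it is trivial. -/
theorem commutator_eq_bot_of_perfect {H : Type u} [Group H] [Fintype H] {a b : ℕ} (ha : 1 < a)
    (hb : 1 < b) (hab : a.Coprime b) (hcd : CD3 H a b)
    (hperf : ⁅commutator H, commutator H⁆ = commutator H) : commutator H = ⊥ := by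
  classical
  by_contra hne0
  haveI : Fintype (Subgroup H) := Fintype.ofFinite _
  obtain ⟨K, hKmem, hKmax⟩ := Finset.exists_max_image
    (Finset.univ.filter fun K : Subgroup H => K.Normal ∧ ¬ commutator H ≤ K) (fun K => Nat.card K)
    ⟨⊥, Finset.mem_filter.2 ⟨Finset.mem_univ _, inferInstance, fun h => hne0 (le_bot_iff.1 h)⟩⟩
  obtain ⟨-, hKn, hKc⟩ := Finset.mem_filter.1 hKmem
  haveI := hKn
  haveI : Fintype (H ⧸ K) := Fintype.ofFinite _
  set π := QuotientGroup.mk' K
  have hπ : Function.Surjective π := QuotientGroup.mk'_surjective K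
  have hmapc : (commutator H).map π = commutator (H ⧸ K) := by
    rw [commutator_def, Subgroup.map_commutator, Subgroup.map_top_of_surjective _ hπ, commutator_def]
  have hne : commutator (H ⧸ K) ≠ ⊥ := fun h => hKc (by
    rw [← hmapc, Subgroup.map_eq_bot_iff, QuotientGroup.ker_mk'] at h
    exact h)
  have hperfQ : ⁅commutator (H ⧸ K), commutator (H ⧸ K)⁆ = commutator (H ⧸ K) := by
    rw [← hmapc, ← Subgroup.map_commutator, hperf]
  have hmin : ∀ W : Subgroup (H ⧸ K), W.Normal → W ≠ ⊥ → commutator (H ⧸ K) ≤ W := by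
    intro W hW hW0
    by_contra hcon
    have hKW : K ≤ W.comap π := fun x hx => by
      rw [Subgroup.mem_comap, show π x = 1 from (QuotientGroup.eq_one_iff x).2 hx]
      exact one_mem _
    have hnot : ¬ commutator H ≤ W.comap π := fun h => hcon (by
      rw [← hmapc, Subgroup.map_le_iff_le_comap]
      exact h)
    have hle := hKmax _ (Finset.mem_filter.2 ⟨Finset.mem_univ _, hW.comap π, hnot⟩)
    refine hW0 ?_
    rw [← Subgroup.map_comap_eq_self_of_surjective hπ W, ← Subgroup.eq_of_le_of_card_ge hKW hle,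
      QuotientGroup.map_mk'_self]
  -- a non-abelian derived subgroup
  have hnab : ¬ ∀ x ∈ commutator (H ⧸ K), ∀ y ∈ commutator (H ⧸ K), x * y = y * x := by
    intro h
    refine hne ?_
    rw [← hperfQ, eq_bot_iff, Subgroup.commutator_le]
    intro x hx y hy
    rw [Subgroup.mem_bot]
    exact commutatorElement_eq_one_iff_mul_comm.2 (h x hx y hy)
  have hZ : Subgroup.center (H ⧸ K) = ⊥ := by
    by_contra h
    exact hnab fun x hx y _ =>
      (Subgroup.mem_center_iff.1 (hmin _ inferInstance h hx) y).symm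
  have hfaith : ∀ χ : IrrCharacter (H ⧸ K), charDegree (χ : H ⧸ K → ℂ) ≠ 1 →
      ∀ g : H ⧸ K, (χ : H ⧸ K → ℂ) g = (χ : H ⧸ K → ℂ) 1 → g = 1 := by
    intro χ hχ g hg
    obtain ⟨W, hW, hmem, -⟩ := IsCharacter.exists_kernel (irr_isCharacter χ)
    by_contra hg1
    have hle := hmin W hW fun h => hg1 (Subgroup.mem_bot.1 (h ▸ (hmem g).2 hg))
    refine hχ (deg_eq ((degree_one_of_commutators χ.2 fun x y => (hmem _).1 (hle ?_)).trans
      Nat.cast_one.symm))
    exact Subgroup.commutator_mem_commutator (Subgroup.mem_top x) (Subgroup.mem_top y)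
  have hcdQ := hcd.quot K
  obtain ⟨χ, hχ⟩ : ∃ χ : IrrCharacter (H ⧸ K), charDegree (χ : H ⧸ K → ℂ) = a := by
    by_contra h
    push Not at h
    exact hnab (commutator_abelian (m := b) (fun χ => (hcdQ χ).imp_right fun h' =>
      h'.resolve_left (h χ)) hb)
  obtain ⟨ψ, hψ⟩ : ∃ χ : IrrCharacter (H ⧸ K), charDegree (χ : H ⧸ K → ℂ) = b := by
    by_contra h
    push Not at h
    exact hnab (commutator_abelian (m := a) (fun χ => (hcdQ χ).imp_right fun h' =>
      h'.resolve_right (h χ)) ha)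
  rcases pure_or ha hb hab hcdQ χ ψ hχ hψ with h | h
  · exact no_pure hb ha hab.symm hcdQ.swap hZ ψ χ hψ (hfaith ψ (by omega)) hχ
      fun ξ hξ => h ξ (by rwa [mul_comm])
  · exact no_pure ha hb hab hcdQ hZ χ ψ hχ (hfaith χ (by omega)) hψ h

end Cfsg.Agent.ThreeDeg
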