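/-
The normal Hall subgroup coprime to both degrees, monomial characters over an abelian Hall
subgroup, and Taketa's step.
-/
import Cfsg.Agent.Lib.Char.TwoDegrees
import Cfsg.Agent.Lib.Char.ExtensionChar
import Cfsg.Agent.Lib.Char.Gallagher
import Cfsg.Agent.Lib.Char.PermChar
import Cfsg.Agent.Lib.Char.ThreeDegrees.Perfect

set_option linter.unusedSectionVars false
set_option linter.style.haveILetI false

namespace Cfsg.Agent.ThreeDeg

open Cfsg Cfsg.Agent.Char Cfsg.Agent.Blocks Cfsg.Agent.TwoDegrees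

open scoped ComplexConjugate commutatorElement

universe u v

variable {G : Type u} [Group G] [Fintype G]

/-- Thompson's complements for the common primes of the two degrees. -/
theorem exists_hall3 {m n : ℕ} (hcd : CD3 G m n) (hm : m ≠ 0) :
    ∃ L : Subgroup G, ∃ _ : L.Normal, (Nat.card L).Coprime (m.gcd n) ∧
      (Nat.card L).Coprime L.index ∧ (∀ s : ℕ, s.Prime → s ∣ L.index → s ∣ m.gcd n) ∧
      Group.IsNilpotent (G ⧸ L) := by
  classical
  set g := m.gcd n with hg
  have hg0 : g ≠ 0 := fun h => hm (Nat.gcd_eq_zero_iff.1 h).1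
  have hK : ∀ p : {p // p ∈ g.primeFactors}, ∃ K : Subgroup G, K.Normal ∧
      (Nat.card K).Coprime p ∧ ∃ k : ℕ, K.index = (p : ℕ) ^ k := fun p => by
    obtain ⟨hp, hpg, -⟩ := Nat.mem_primeFactors.1 p.2
    refine Cfsg.Agent.Char.TC.exists_complement hp fun χ hχ d hd => ?_
    have hdd : charDegree ((⟨χ, hχ⟩ : IrrCharacter G) : G → ℂ) = d := deg_eq hd
    rcases hcd ⟨χ, hχ⟩ with h | h | h <;> rw [hdd] at h
    · exact Or.inl h
    · exact Or.inr (h ▸ hpg.trans (Nat.gcd_dvd_left m n))
    · exact Or.inr (h ▸ hpg.trans (Nat.gcd_dvd_right m n))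
  choose K hKn hKc hKi using hK
  set L : Subgroup G := ⨅ p, K p with hL
  have hLn : L.Normal := Subgroup.normal_iInf_normal hKn
  have hcop : (Nat.card L).Coprime g := by
    refine Nat.coprime_of_dvd fun s hs h1 h2 => ?_
    have hsm : s ∈ g.primeFactors := Nat.mem_primeFactors.2 ⟨hs, h2, hg0⟩
    have hle : L ≤ K ⟨s, hsm⟩ := iInf_le K _
    exact hs.ne_one (Nat.eq_one_of_dvd_coprimes (hKc ⟨s, hsm⟩)
      (h1.trans (Subgroup.card_dvd_of_le hle)) dvd_rfl)
  have hidx : ∀ s : ℕ, s.Prime → s ∣ L.index → s ∣ g := by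
    intro s hs hsd
    by_contra hsm
    haveI := Fact.mk hs
    obtain ⟨S⟩ : Nonempty (Sylow s G) := inferInstance
    refine S.not_dvd_index (hsd.trans (Subgroup.index_dvd_of_le ?_))
    intro x hx
    rw [hL, Subgroup.mem_iInf]
    intro p
    haveI := hKn p
    obtain ⟨k, hk⟩ := hKi p
    obtain ⟨hp, hpm, -⟩ := Nat.mem_primeFactors.1 p.2
    obtain ⟨i, hi⟩ := (IsPGroup.iff_orderOf).1 S.2 ⟨x, hx⟩
    rw [Subgroup.orderOf_mk] at hi
    have h1 : orderOf (x : G ⧸ K p) ∣ s ^ i := hi ▸ orderOf_map_dvd (QuotientGroup.mk' (K p)) x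
    have h2 : orderOf (x : G ⧸ K p) ∣ (p : ℕ) ^ k :=
      hk ▸ (K p).index_eq_card ▸ orderOf_dvd_natCard _
    have h3 : Nat.Coprime (s ^ i) ((p : ℕ) ^ k) :=
      (((Nat.coprime_primes hs hp).2 fun e => hsm (e ▸ hpm)).pow i k)
    exact (QuotientGroup.eq_one_iff x).1
      (orderOf_eq_one_iff.1 (Nat.eq_one_of_dvd_coprimes h3 h1 h2))
  refine ⟨L, hLn, hcop, ?_, hidx, ?_⟩
  · refine Nat.coprime_of_dvd fun s hs h1 h2 => ?_
    exact hs.ne_one (Nat.eq_one_of_dvd_coprimes hcop h1 (hidx s hs h2))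
  · haveI : ∀ p, Group.IsNilpotent (G ⧸ K p) := fun p => by
      obtain ⟨k, hk⟩ := hKi p
      haveI := Fact.mk (Nat.mem_primeFactors.1 p.2).1
      exact (IsPGroup.of_card (p := (p : ℕ)) (n := k)
        (by rw [← Subgroup.index_eq_card, hk])).isNilpotent
    let f : G ⧸ L →* ∀ p, G ⧸ K p := QuotientGroup.lift L
      (Pi.monoidHom fun p => QuotientGroup.mk' (K p))
      fun x hx => funext fun p => (QuotientGroup.eq_one_iff x).2 (iInf_le K p hx)
    refine Subgroup.isNilpotent_of_ker_le_center f ?_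
    intro y hy
    obtain ⟨x, rfl⟩ := QuotientGroup.mk_surjective y
    have hx : (x : G) ∈ L := by
      rw [hL, Subgroup.mem_iInf]
      exact fun p => (QuotientGroup.eq_one_iff x).1 (congrFun (MonoidHom.mem_ker.1 hy) p)
    rw [(QuotientGroup.eq_one_iff x).2 hx]
    exact one_mem _

/-- Above an abelian normal Hall subgroup with nilpotent factor every character is monomial. -/
theorem exists_monomial_of_hall (L : Subgroup G) [L.Normal]
    (hab : ∀ a ∈ L, ∀ b ∈ L, a * b = b * a) (hcop : (Nat.card L).Coprime L.index)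
    [Group.IsNilpotent (G ⧸ L)] {χ : G → ℂ} (hχ : IsIrrCharacter G χ) :
    ∃ (H : Subgroup G) (lam : H →* ℂˣ), χ = indFun H (fun h => (lam h : ℂ)) := by
  classical
  haveI : Fintype L := Fintype.ofFinite L
  obtain ⟨θ, hθ⟩ := exists_restrict_constituent hχ L
  obtain ⟨l, hl⟩ := exists_hom_of_degree_one (irr_isCharacter θ)
    (degree_one_of_comm (fun a b : L => Subtype.ext (hab _ a.2 _ b.2)) θ.2)
  set T := inertia L (θ : L → ℂ) with hTdef
  haveI : Fintype T := Fintype.ofFinite T
  have hLT : L ≤ T := le_inertia L (IsCharacter.isClassFunction (irr_isCharacter θ))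
  set L' := L.subgroupOf T
  haveI : Fintype L' := Fintype.ofFinite _
  obtain ⟨ψ, hψ, hind, hmult⟩ := clifford_correspondence_surjective L θ.2 hTdef hLT hχ hθ
  let eqv := Subgroup.subgroupOfEquivOfLe hLT
  have hinv : ∀ (t : T) (y : L'), (l.comp eqv.toMonoidHom) (Cfsg.Agent.Char.conjHom L' t y) =
      (l.comp eqv.toMonoidHom) y := fun t y => by
    have h := congrFun ((mem_inertia L).mp t.2) (eqv y)
    rw [hl] at h
    exact Units.ext h
  have hcop' : Nat.Coprime L'.index (orderOf (l.comp eqv.toMonoidHom)) := by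
    have h1 : L'.index ∣ L.index := Subgroup.relIndex_dvd_index_of_normal L T
    have h2 : orderOf (l.comp eqv.toMonoidHom) ∣ Nat.card L := by
      refine orderOf_dvd_of_pow_eq_one (MonoidHom.ext fun y => ?_)
      rw [MonoidHom.pow_apply, MonoidHom.comp_apply, ← map_pow, MulEquiv.coe_toMonoidHom,
        pow_card_eq_one', map_one, MonoidHom.one_apply]
    exact (hcop.symm.coprime_dvd_left h1).coprime_dvd_right h2
  obtain ⟨μ, hμ, -⟩ := Cfsg.Agent.CharExtend.exists_linear_extension _ hinv hcop'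
  have hres : (fun y : L' => (μ (y : T) : ℂ)) = fun y : L' => (θ : L → ℂ) (eqv y) := by
    funext y
    rw [hμ, hl]
    rfl
  have hirr : IsIrrCharacter L' (fun y : L' => (μ (y : T) : ℂ)) := by
    rw [hres]
    exact IsIrrCharacter.comp θ.2 eqv.toMonoidHom eqv.surjective
  have hne : classInner (fun y : L' => ψ y) (fun y : L' => (μ (y : T) : ℂ)) ≠ 0 := by
    intro h0
    apply hθ
    rw [hres] at h0
    rw [← hmult, ← h0]
    simp only [classInner]
    rw [Nat.card_congr eqv.toEquiv]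
    congr 1
    exact (Fintype.sum_equiv eqv.toEquiv _ _ fun y => rfl).symm
  obtain ⟨β, hβ, heq⟩ := (gallagher_one L'
    (IsIrrCharacter.isCharacter (isIrrCharacter_linear μ)) hirr).2.2 ψ hψ hne
  haveI : Fintype (T ⧸ L') := Fintype.ofFinite _
  haveI : Group.IsNilpotent (T ⧸ L') := by
    let f : T ⧸ L' →* G ⧸ L := QuotientGroup.map L' L T.subtype le_rfl
    refine Subgroup.isNilpotent_of_ker_le_center f ?_
    intro y hy
    obtain ⟨x, rfl⟩ := QuotientGroup.mk_surjective y
    have hx : (x : G) ∈ L := (QuotientGroup.eq_one_iff (x : G)).1 (MonoidHom.mem_ker.1 hy)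
    rw [(QuotientGroup.eq_one_iff x).2 (Subgroup.mem_subgroupOf.2 hx)]
    exact one_mem _
  obtain ⟨β', -, hval, hβirr⟩ :=
    IsCharacter.deflate (irr_isCharacter β) L' fun x hx => hβ ⟨x, hx⟩
  obtain ⟨U, lam, hlam⟩ := exists_monomial_of_nilpotent _ (T ⧸ L') rfl β' (hβirr β.2)
  set U' := U.comap (QuotientGroup.mk' L')
  haveI : Fintype U' := Fintype.ofFinite _
  let lam' : U' →* ℂˣ := (lam.comp ((QuotientGroup.mk' L').subgroupComap U)) * μ.comp U'.subtype
  let e := U'.equivMapOfInjective T.subtype T.subtype_injective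
  refine ⟨U'.map T.subtype, lam'.comp e.symm.toMonoidHom, ?_⟩
  have hψeq : ψ = indFun U' (fun u => (lam' u : ℂ)) := by
    rw [← heq]
    have hb : (β : T → ℂ) = indFun U' (fun u : U' =>
        ((lam.comp ((QuotientGroup.mk' L').subgroupComap U)) u : ℂ)) := by
      funext t
      rw [← hval t, hlam]
      exact indFun_comap (QuotientGroup.mk' L') (QuotientGroup.mk'_surjective L') U _ _
        (fun x => rfl) t
    rw [hb, mul_comm, mul_indFun U'
      (IsCharacter.isClassFunction (IsIrrCharacter.isCharacter (isIrrCharacter_linear μ)))]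
    refine congrArg (indFun U') (funext fun u => ?_)
    show (μ (u : T) : ℂ) * _ = ((_ * μ (u : T) : ℂˣ) : ℂ)
    rw [Units.val_mul, mul_comm]
  rw [← hind, hψeq]
  exact indFun_map T U' _ _ fun u => congrArg (fun y => (lam' y : ℂ)) (e.symm_apply_apply u)

/-- Taketa's step. -/
theorem taketa_step (D : Subgroup G) [D.Normal] (H : Subgroup G) (lam : H →* ℂˣ)
    (hsmall : ∀ ψ : IrrCharacter G, charDegree (ψ : G → ℂ) < H.index →
      ∀ x ∈ D, (ψ : G → ℂ) x = (ψ : G → ℂ) 1) {g : G} (hg : g ∈ ⁅D, D⁆) :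
    indFun H (fun h => (lam h : ℂ)) g = indFun H (fun h => (lam h : ℂ)) 1 := by
  classical
  haveI : Fintype H := Fintype.ofFinite H
  have hle : D ≤ H := by
    by_cases hH : H = ⊤
    · rw [hH]; exact le_top
    intro x hx
    have hperm : IsCharacter G (indFun H (fun _ => 1)) := isCharacter_indFun H isCharacter_one
    obtain ⟨m, hm⟩ := IsCharacter.exists_decomp hperm
    have hp1 : m (principal G) ≠ 0 := by
      intro h0
      have h1 := classInner_combination (fun ψ => (m ψ : ℂ)) (principal G)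
      simp only [h0, Nat.cast_zero, ← hm] at h1
      rw [classInner_indFun_left H _
        (IsCharacter.isClassFunction (irr_isCharacter (principal G)))] at h1
      exact one_ne_zero ((classInner_self_irr (G := H) isIrrCharacter_one).symm.trans h1)
    have h1 := congrFun hm 1
    simp only [indFun_one_apply, Finset.sum_apply, Pi.smul_apply, smul_eq_mul, mul_one,
      irr_one_eq_charDegree] at h1
    have h2 : H.index = ∑ ψ, m ψ * charDegree (ψ : G → ℂ) := by exact_mod_cast h1
    have hall : ∀ ψ : IrrCharacter G, m ψ ≠ 0 → (ψ : G → ℂ) x = (ψ : G → ℂ) 1 := by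
      intro ψ hψ
      by_cases hψp : ψ = principal G
      · rw [hψp]; rfl
      refine hsmall ψ ?_ x hx
      have h3 : m ψ * charDegree (ψ : G → ℂ) +
          m (principal G) * charDegree (principal G : G → ℂ)
          ≤ ∑ ψ, m ψ * charDegree (ψ : G → ℂ) := by
        rw [← Finset.sum_pair (f := fun φ => m φ * charDegree (φ : G → ℂ)) hψp]
        exact Finset.sum_le_sum_of_subset (Finset.subset_univ _)
      have h4 : 0 < m (principal G) * charDegree (principal G : G → ℂ) :=
        Nat.mul_pos (Nat.pos_of_ne_zero hp1) (charDegree_pos _)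
      have h5 : charDegree (ψ : G → ℂ) ≤ m ψ * charDegree (ψ : G → ℂ) :=
        Nat.le_mul_of_pos_left _ (Nat.pos_of_ne_zero hψ)
      omega
    by_contra hxH
    have h6 : indFun H (fun _ => (1 : ℂ)) x = indFun H (fun _ => (1 : ℂ)) 1 := by
      rw [hm]
      simp only [Finset.sum_apply, Pi.smul_apply]
      refine Finset.sum_congr rfl fun ψ _ => ?_
      by_cases h0 : m ψ = 0
      · simp [h0]
      · rw [hall ψ h0]
    rw [indFun_apply, indFun_apply] at h6
    have h7 := mul_left_cancel₀ (inv_ne_zero (Nat.cast_ne_zero.mpr Nat.card_pos.ne')) h6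
    have hv : ∀ y : G, extendByZero H (fun _ => (1 : ℂ)) y = if y ∈ H then 1 else 0 := by
      intro y
      split_ifs with hy
      · rw [extendByZero_mem H _ hy]
      · rw [extendByZero_not_mem H _ hy]
    simp only [hv, Finset.sum_boole, Nat.cast_inj, mul_one, inv_mul_cancel, one_mem,
      Finset.filter_true, Finset.card_univ] at h7
    have h8 := Finset.eq_univ_iff_forall.mp (Finset.card_eq_iff_eq_univ _ |>.mp h7) 1
    exact hxH (by simpa using h8)
  have hzero : ∀ y ∈ ⁅D, D⁆, ∃ hy : y ∈ H, lam ⟨y, hy⟩ = 1 := by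
    intro y hy
    have : ⁅D, D⁆ ≤ lam.ker.map H.subtype := by
      rw [Subgroup.commutator_le]
      intro a ha b hb
      refine ⟨(⟨a, hle ha⟩ : H) * ⟨b, hle hb⟩ * (⟨a, hle ha⟩ : H)⁻¹ * (⟨b, hle hb⟩ : H)⁻¹, ?_, ?_⟩
      · rw [SetLike.mem_coe, MonoidHom.mem_ker, map_mul, map_mul, map_mul, map_inv, map_inv,
          mul_comm (lam ⟨a, _⟩), mul_inv_cancel_right, mul_inv_cancel]
      · rfl
    obtain ⟨z, hz, rfl⟩ := this hy
    exact ⟨z.2, hz⟩
  rw [indFun_apply, indFun_apply]
  congr 1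
  refine Finset.sum_congr rfl fun x _ => ?_
  obtain ⟨hy, hy1⟩ := hzero (x⁻¹ * g * x) (by
    simpa using (inferInstance : (⁅D, D⁆).Normal).conj_mem g hg x⁻¹)
  rw [extendByZero_mem H _ hy, hy1, mul_one, inv_mul_cancel, extendByZero_one, map_one]

/-- An M-group with degrees in `{1, m, n}` has trivial third derived subgroup. -/
theorem derived_three_of_monomial {m n : ℕ} (hcd : CD3 G m n) (hm : 1 < m) (hmn : m < n)
    (hM : ∀ χ : G → ℂ, IsIrrCharacter G χ →
      ∃ (H : Subgroup G) (lam : H →* ℂˣ), χ = indFun H (fun h => (lam h : ℂ))) :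
    derivedSeries G 3 = ⊥ := by
  classical
  have hidx : ∀ (χ : IrrCharacter G) (H : Subgroup G) (lam : H →* ℂˣ),
      (χ : G → ℂ) = indFun H (fun h => (lam h : ℂ)) → charDegree (χ : G → ℂ) = H.index := by
    intro χ H lam e
    refine deg_eq ?_
    rw [e, indFun_one_apply, map_one, Units.val_one, mul_one]
  have step : ∀ (D : Subgroup G) (_ : D.Normal) (χ : IrrCharacter G),
      (∀ ψ : IrrCharacter G, charDegree (ψ : G → ℂ) < charDegree (χ : G → ℂ) →
        ∀ x ∈ D, (ψ : G → ℂ) x = (ψ : G → ℂ) 1) →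
      ∀ g ∈ ⁅D, D⁆, (χ : G → ℂ) g = (χ : G → ℂ) 1 := by
    intro D hD χ hsmall g hg
    obtain ⟨H, lam, e⟩ := hM χ χ.2
    rw [e]
    exact taketa_step D H lam (fun ψ hψ => hsmall ψ (by rwa [hidx χ H lam e])) hg
  have hdn : ∀ k, (derivedSeries G k).Normal := fun k => derivedSeries_normal G k
  have h1 : ∀ χ : IrrCharacter G, charDegree (χ : G → ℂ) = 1 →
      ∀ x ∈ derivedSeries G 1, (χ : G → ℂ) x = (χ : G → ℂ) 1 := by
    intro χ hd x hx
    rw [derivedSeries_one] at hx
    rw [linear_eq_one_of_mem hd hx, irr_one_eq_charDegree, hd, Nat.cast_one]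
  have h2 : ∀ χ : IrrCharacter G, charDegree (χ : G → ℂ) < n →
      ∀ x ∈ derivedSeries G 2, (χ : G → ℂ) x = (χ : G → ℂ) 1 := by
    intro χ hlt x hx
    rw [derivedSeries_succ] at hx
    rcases hcd χ with hd | hd | hd
    · exact h1 χ hd x ((derivedSeries G 1).commutator_le_self hx)
    · refine step _ (hdn 1) χ (fun ψ hψ => h1 ψ ?_) x hx
      rcases hcd ψ with h | h | h <;> omega
    · omega
  rw [eq_bot_iff]
  intro g hg
  rw [derivedSeries_succ] at hg
  rw [Subgroup.mem_bot]
  refine eq_one_of_forall fun χ => ?_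
  rcases hcd χ with hd | hd | hd
  · exact h1 χ hd g ((derivedSeries_antitone G (show 1 ≤ 2 by omega))
      ((derivedSeries G 2).commutator_le_self hg))
  · exact h2 χ (by omega) g ((derivedSeries G 2).commutator_le_self hg)
  · exact step _ (hdn 2) χ (fun ψ hψ => h2 ψ (by omega)) g hg

end Cfsg.Agent.ThreeDeg
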