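/-
Groups with three character degrees have derived length at most three.
-/
import Cfsg.Agent.Lib.Char.ThreeDegrees.Monomial
import Cfsg.Agent.Lib.Char.ThreeDegrees.Perfect
import Cfsg.Agent.Lib.Blocks.MinNonAbelianQuot
import Cfsg.Agent.Lib.Blocks.Garrison

set_option linter.unusedSectionVars false
set_option linter.style.haveILetI false

namespace Cfsg.Agent.ThreeDeg

open Cfsg Cfsg.Agent.Char Cfsg.Agent.Blocks Cfsg.Agent.TwoDegrees Cfsg.Agent.MinQuot

open scoped ComplexConjugate commutatorElement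

universe u v

variable {G : Type u} [Group G] [Fintype G]

theorem charDegree_principal (H : Type v) [Group H] :
    charDegree (principal H : H → ℂ) = 1 := Cfsg.Agent.CharX.charDegree_one

/-- The ratio of the degrees divides the index. -/
theorem exists_ratio (N : Subgroup G) [N.Normal] [Fintype N] (χ : IrrCharacter G)
    (θ : IrrCharacter N) (h : classInner (fun x : N => (χ : G → ℂ) x) (θ : N → ℂ) ≠ 0) :
    ∃ k : ℕ, charDegree (χ : G → ℂ) = k * charDegree (θ : N → ℂ) ∧ k ∣ N.index := by
  obtain ⟨k, hk, hdvd⟩ := exists_ratio_dvd_index N χ.2 θ.2 h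
  rw [irr_one_eq_charDegree, irr_one_eq_charDegree, ← Nat.cast_mul, Nat.cast_inj] at hk
  exact ⟨k, hk, hdvd⟩

/-- A character of a smaller normal subgroup lies below one of a larger one. -/
theorem exists_over_le (S T : Subgroup G) [S.Normal] [Fintype S] [Fintype T] (hST : S ≤ T)
    (θ : IrrCharacter S) :
    ∃ (φ : IrrCharacter T) (e : ℕ),
      charDegree (φ : T → ℂ) = e * charDegree (θ : S → ℂ) ∧ e ∣ S.relIndex T := by
  haveI : Fintype (S.subgroupOf T) := Fintype.ofFinite _
  let eqv := Subgroup.subgroupOfEquivOfLe hST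
  let θ' : IrrCharacter (S.subgroupOf T) :=
    ⟨_, IsIrrCharacter.comp θ.2 eqv.toMonoidHom eqv.surjective⟩
  obtain ⟨φ, hφ⟩ := exists_over (S.subgroupOf T) θ'
  obtain ⟨e, he, hdvd⟩ := exists_ratio (S.subgroupOf T) φ θ' hφ
  refine ⟨φ, e, ?_, hdvd⟩
  rw [he]
  congr 1

/-- The third derived subgroup vanishes below a metabelian subgroup `S` with `G'' ≤ ⁅S, S⁆`. -/
theorem der_three_of_le {S : Subgroup G} (h2 : derivedSeries G 2 ≤ ⁅S, S⁆)
    (hS : ∀ a ∈ commutator S, ∀ b ∈ commutator S, a * b = b * a) : derivedSeries G 3 = ⊥ := by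
  have hmap : ⁅S, S⁆ = (commutator S).map S.subtype := by
    rw [commutator_def, Subgroup.map_commutator, ← MonoidHom.range_eq_map, Subgroup.range_subtype]
  rw [eq_bot_iff, derivedSeries_succ]
  refine (Subgroup.commutator_mono h2 h2).trans ?_
  rw [Subgroup.commutator_le, hmap]
  rintro _ ⟨a, ha, rfl⟩ _ ⟨b, hb, rfl⟩
  rw [Subgroup.mem_bot, commutatorElement_eq_one_iff_mul_comm, Subgroup.coe_subtype,
    ← Subgroup.coe_mul, hS a ha b hb, Subgroup.coe_mul]

/-- A metabelian quotient gives a `p`-group or a Frobenius quotient. -/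
theorem dichotomy_metabelian (h : ¬ commutator G ≤ derivedSeries G 2) :
    (∃ (K : Subgroup G) (_ : K.Normal) (p : ℕ), p.Prime ∧ IsPGroup p (G ⧸ K) ∧
        ∃ β : IrrCharacter G, (∀ k ∈ K, (β : G → ℂ) k = (β : G → ℂ) 1) ∧
          charDegree (β : G → ℂ) ≠ 1) ∨
      ∃ (K N : Subgroup G) (_ : K.Normal) (_ : N.Normal) (q : ℕ), FrobData K N q := by
  classical
  set M := derivedSeries G 2
  haveI : M.Normal := derivedSeries_normal G 2
  haveI : Fintype (G ⧸ M) := Fintype.ofFinite _
  set π := QuotientGroup.mk' M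
  have hπ : Function.Surjective π := QuotientGroup.mk'_surjective M
  haveI : Group.IsSolvable (G ⧸ M) := (Group.isSolvable_def _).mpr ⟨2, by
    rw [← map_derivedSeries_eq hπ, QuotientGroup.map_mk'_self]⟩
  have hna : ∃ a b : G ⧸ M, a * b ≠ b * a := by
    by_contra hc
    push Not at hc
    refine h ?_
    rw [commutator_def, Subgroup.commutator_le]
    intro a _ b _
    refine (QuotientGroup.eq_one_iff ⁅a, b⁆).1 ?_
    show ⁅π a, π b⁆ = 1
    exact commutatorElement_eq_one_iff_mul_comm.2 (hc _ _)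
  rcases MinQuot.dichotomy hna with ⟨K, hK, p, hp, hpg, β, hβK, hβ1⟩ | ⟨K, N, hK, hN, q, D⟩
  · haveI : (K.comap π).Normal := hK.comap π
    refine Or.inl ⟨K.comap π, inferInstance, p, hp, ?_, ⟨_, IsIrrCharacter.comp β.2 π hπ⟩,
      fun k hk => ?_, fun e => hβ1 ?_⟩
    · intro x
      obtain ⟨g, rfl⟩ := QuotientGroup.mk_surjective x
      obtain ⟨k, hk⟩ := hpg ((π g : G ⧸ M) : (G ⧸ M) ⧸ K)
      refine ⟨k, ?_⟩
      rw [← QuotientGroup.mk_pow] at hk ⊢
      rw [QuotientGroup.eq_one_iff] at hk ⊢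
      rwa [Subgroup.mem_comap, map_pow]
    · show (β : G ⧸ M → ℂ) (π k) = (β : G ⧸ M → ℂ) (π 1)
      rw [map_one]
      exact hβK _ hk
    · simpa [charDegree] using e
  · refine Or.inr ⟨K.comap π, N.comap π, hK.comap π, hN.comap π, q, ?_⟩
    have hrel : (K.comap π).relIndex (N.comap π) = K.relIndex N := by
      rw [Subgroup.relIndex_comap, Subgroup.map_comap_eq_self_of_surjective hπ]
    refine ⟨Subgroup.comap_mono D.le, D.prime, hrel.symm ▸ D.pow, fun a ha b hb => ?_, ?_, ?_, ?_,
      fun g hg x hx hgx => ?_⟩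
    · rw [Subgroup.mem_comap, map_commutatorElement]
      exact D.comm _ ha _ hb
    · rw [← Subgroup.map_le_iff_le_comap, commutator_def, Subgroup.map_commutator,
        Subgroup.map_top_of_surjective _ hπ]
      exact D.comm_le
    · rw [Subgroup.index_comap_of_surjective _ hπ]; exact D.index_ne
    · rw [Subgroup.index_comap_of_surjective _ hπ, hrel]; exact D.index_lt
    · rw [Subgroup.mem_comap, map_commutatorElement] at hgx
      exact D.fpf (π g) hg (π x) hx hgx

/-- The kernel prime of a Frobenius quotient does not divide its index. -/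
theorem not_dvd_index {K N : Subgroup G} [K.Normal] [N.Normal] {q : ℕ} (D : FrobData K N q) :
    ¬ q ∣ N.index := by
  classical
  intro hdvd
  haveI := Fact.mk D.prime
  haveI : Fintype (G ⧸ N) := Fintype.ofFinite _
  haveI : Fintype (G ⧸ K) := Fintype.ofFinite _
  rw [Subgroup.index_eq_card] at hdvd
  obtain ⟨w, hw⟩ := exists_prime_orderOf_dvd_card' q hdvd
  set πN := QuotientGroup.mk' N
  set πK := QuotientGroup.mk' K
  set W := (Subgroup.zpowers w).comap πN
  have hNW : N ≤ W := fun x hx => by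
    rw [Subgroup.mem_comap, show πN x = 1 from (QuotientGroup.eq_one_iff x).2 hx]
    exact one_mem _
  have hcW : Nat.card (W.map πK) = K.relIndex W := by
    rw [← Subgroup.relIndex_bot_left, ← Subgroup.relIndex_comap, MonoidHom.comap_bot,
      QuotientGroup.ker_mk']
  have hNrel : N.relIndex W = q := by
    have h := Subgroup.relIndex_comap (H := (⊥ : Subgroup (G ⧸ N))) πN W
    rw [MonoidHom.comap_bot, QuotientGroup.ker_mk',
      Subgroup.map_comap_eq_self_of_surjective (QuotientGroup.mk'_surjective N),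
      Subgroup.relIndex_bot_left, Nat.card_zpowers, hw] at h
    exact h
  obtain ⟨a, ha⟩ := D.pow
  have hcard : Nat.card (W.map πK) = q ^ (a + 1) := by
    rw [hcW, ← Subgroup.relIndex_mul_relIndex K N W D.le hNW, hNrel, ha, pow_succ]
  haveI : Nontrivial (W.map πK) := by
    rw [← Finite.one_lt_card_iff_nontrivial, hcard]
    exact Nat.one_lt_pow a.succ_ne_zero D.prime.one_lt
  obtain ⟨z, hz, hz1⟩ := (Subgroup.bot_or_exists_ne_one (Subgroup.center (W.map πK))
    ).resolve_left ((Subgroup.nontrivial_iff_ne_bot _).1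
      (IsPGroup.of_card hcard).center_nontrivial)
  obtain ⟨x, hxW, hxz⟩ := Subgroup.mem_map.1 z.2
  have hcomm : ∀ v ∈ W, ⁅v, x⁆ ∈ K := by
    intro v hv
    refine (QuotientGroup.eq_one_iff ⁅v, x⁆).1 ?_
    show ⁅πK v, πK x⁆ = 1
    rw [hxz, commutatorElement_eq_one_iff_mul_comm]
    exact congrArg Subtype.val (Subgroup.mem_center_iff.1 hz ⟨_, Subgroup.mem_map_of_mem _ hv⟩)
  have hxK : x ∉ K := fun h => hz1 (Subtype.ext (by
    rw [← hxz, Subgroup.coe_one]
    exact (QuotientGroup.eq_one_iff x).2 h))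
  by_cases hxN : x ∈ N
  · obtain ⟨v, hv⟩ := QuotientGroup.mk'_surjective N w
    have hvN : v ∉ N := fun h => D.prime.ne_one (by
      rw [← hw, ← hv, show QuotientGroup.mk' N v = 1 from (QuotientGroup.eq_one_iff v).2 h,
        orderOf_one])
    exact hxK (D.fpf v hvN x hxN (hcomm v (Subgroup.mem_comap.2 (by
      rw [hv]; exact Subgroup.mem_zpowers w))))
  · have hNK : N ≤ K := fun y hy => D.fpf x hxN y hy (by
      rw [← inv_mem_iff, commutatorElement_inv]
      exact hcomm y (hNW hy))
    have h := D.index_lt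
    rw [Subgroup.relIndex_eq_one.2 hNK] at h
    exact absurd h (not_lt.2 (Nat.pos_of_ne_zero Subgroup.index_ne_zero_of_finite))

variable {m n a b : ℕ}

/-- The situation of two non-linear degrees `m`, `n` and the degrees `a`, `b` below them on a
normal Hall subgroup. -/
structure Setup (L : Subgroup G) (m n a b : ℕ) [Fintype L] : Prop where
  hm : 1 < m
  hn : 1 < n
  hne : m ≠ n
  cd : CD3 G m n
  occ_m : ∃ χ : IrrCharacter G, charDegree (χ : G → ℂ) = m
  occ_n : ∃ χ : IrrCharacter G, charDegree (χ : G → ℂ) = n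
  cop : (Nat.card L).Coprime (m.gcd n)
  idx : ∀ s : ℕ, s.Prime → s ∣ L.index → s ∣ m.gcd n
  dvd_m : a ∣ m
  dvd_n : b ∣ n
  card_a : a ∣ Nat.card L
  card_b : b ∣ Nat.card L
  below : ∀ (χ : IrrCharacter G) (θ : IrrCharacter L),
    classInner (fun x : L => (χ : G → ℂ) x) (θ : L → ℂ) ≠ 0 →
      (charDegree (χ : G → ℂ) = 1 → charDegree (θ : L → ℂ) = 1) ∧
      (charDegree (χ : G → ℂ) = m → charDegree (θ : L → ℂ) = a) ∧
      (charDegree (χ : G → ℂ) = n → charDegree (θ : L → ℂ) = b)

theorem Setup.symm {L : Subgroup G} [Fintype L] (S : Setup L m n a b) : Setup L n m b a where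
  hm := S.hn
  hn := S.hm
  hne := S.hne.symm
  cd := S.cd.swap
  occ_m := S.occ_n
  occ_n := S.occ_m
  cop := Nat.gcd_comm m n ▸ S.cop
  idx := fun s hs h => Nat.gcd_comm m n ▸ S.idx s hs h
  dvd_m := S.dvd_n
  dvd_n := S.dvd_m
  card_a := S.card_b
  card_b := S.card_a
  below := fun χ θ h => ⟨(S.below χ θ h).1, (S.below χ θ h).2.2, (S.below χ θ h).2.1⟩

theorem Setup.cop_nb {L : Subgroup G} [Fintype L] (S : Setup L m n a b) : Nat.Coprime m b := by
  refine Nat.coprime_of_dvd fun s hs h1 h2 => ?_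
  exact hs.ne_one (Nat.eq_one_of_dvd_coprimes S.cop (h2.trans S.card_b)
    (Nat.dvd_gcd h1 (h2.trans S.dvd_n)))

theorem Setup.cd_below {L : Subgroup G} [L.Normal] [Fintype L] (S : Setup L m n a b) :
    CD3 L a b := by
  intro θ
  obtain ⟨χ, hχ⟩ := exists_over L θ
  obtain ⟨h1, h2, h3⟩ := S.below χ θ hχ
  rcases S.cd χ with h | h | h
  · exact Or.inl (h1 h)
  · exact Or.inr (Or.inl (h2 h))
  · exact Or.inr (Or.inr (h3 h))

/-- One of the degrees below is linear. -/
theorem case_one_linear {L : Subgroup G} [L.Normal] [Fintype L] (S : Setup L m n a b) (ha : a = 1)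
    (hb : 1 < b) : derivedSeries G 3 = ⊥ := by
  classical
  set M := ⁅L, L⁆
  haveI : Fintype (G ⧸ M) := Fintype.ofFinite _
  have hcdQ : CD (G ⧸ M) m := by
    intro χ
    refine (S.cd.quot M χ).imp_right fun h => h.resolve_right fun hd => ?_
    set χ' := Cfsg.Agent.CharX.infl M χ
    have hd' : charDegree (χ' : G → ℂ) = n := by
      simpa [charDegree, χ', Cfsg.Agent.CharX.infl] using hd
    obtain ⟨θ, hθ⟩ := exists_restrict_constituent χ'.2 L
    have hθd := (S.below χ' θ hθ).2.2 hd'
    have hθ1 : (θ : L → ℂ) 1 = 1 := by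
      refine degree_one_of_commutators θ.2 fun x y => ?_
      refine Garrison.constituent_eq_one (IsCharacter.restrict (irr_isCharacter χ') L) θ.2 hθ ?_
      have hmem : ((x * y * x⁻¹ * y⁻¹ : L) : G) ∈ M := by
        simp only [Subgroup.coe_mul, Subgroup.coe_inv]
        exact Subgroup.commutator_mem_commutator x.2 y.2
      simpa [χ', Cfsg.Agent.CharX.infl] using
        congrArg (χ : G ⧸ M → ℂ) ((QuotientGroup.eq_one_iff _).2 hmem)
    rw [irr_one_eq_charDegree, hθd, ← Nat.cast_one (R := ℂ), Nat.cast_inj] at hθ1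
    omega
  have h2 : derivedSeries G 2 ≤ M := by
    rw [derivedSeries_succ, derivedSeries_one, Subgroup.commutator_le]
    intro x hx y hy
    refine (QuotientGroup.eq_one_iff ⁅x, y⁆).1 ?_
    show ⁅QuotientGroup.mk' M x, QuotientGroup.mk' M y⁆ = 1
    have hmap : (commutator G).map (QuotientGroup.mk' M) ≤ commutator (G ⧸ M) := by
      rw [commutator_def, Subgroup.map_commutator, commutator_def]
      exact Subgroup.commutator_mono le_top le_top
    exact commutatorElement_eq_one_iff_mul_comm.2 (commutator_abelian hcdQ S.hm _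
      (hmap (Subgroup.mem_map_of_mem _ hx)) _ (hmap (Subgroup.mem_map_of_mem _ hy)))
  refine der_three_of_le h2 (commutator_abelian (m := b) (fun θ => ?_) hb)
  rcases S.cd_below θ with h | h | h
  · exact Or.inl h
  · exact Or.inl (h.trans ha)
  · exact Or.inr h

/-- The case of a `p`-group quotient. -/
theorem case_pgroup {L : Subgroup G} [L.Normal] [Fintype L] (S : Setup L m n a b) (ha : 1 < a)
    (K : Subgroup G) [K.Normal] {p : ℕ} (hp : p.Prime) (hpg : IsPGroup p (G ⧸ K))
    (β : IrrCharacter G) (hβK : ∀ k ∈ K, (β : G → ℂ) k = (β : G → ℂ) 1)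
    (hβ : charDegree (β : G → ℂ) = m) : False := by
  classical
  haveI := Fact.mk hp
  haveI : Fintype (G ⧸ K) := Fintype.ofFinite _
  haveI : Fintype K := Fintype.ofFinite K
  obtain ⟨r, hr⟩ : ∃ r, m = p ^ r := by
    obtain ⟨β', -, he, hirr⟩ := IsCharacter.deflate (irr_isCharacter β) K hβK
    have hd : m ∣ Nat.card (G ⧸ K) :=
      degree_dvd_card (hirr β.2) (by rw [← QuotientGroup.mk_one, he, irr_one_eq_charDegree, hβ])
    obtain ⟨k, hk⟩ := hpg.exists_card_eq
    rw [hk] at hd
    obtain ⟨r, -, hr⟩ := (Nat.dvd_prime_pow hp).1 hd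
    exact ⟨r, hr⟩
  have hpn : ¬ p ∣ n := by
    intro hd
    obtain ⟨s, hs, hsa⟩ := Nat.exists_prime_and_dvd (n := a) (by omega)
    have hsp : s = p := (Nat.prime_dvd_prime_iff_eq hs hp).1
      (hs.dvd_of_dvd_pow (hr ▸ hsa.trans S.dvd_m))
    exact hs.ne_one (Nat.eq_one_of_dvd_coprimes S.cop (hsa.trans S.card_a)
      (Nat.dvd_gcd (hsa.trans S.dvd_m) (hsp ▸ hd)))
  obtain ⟨χ, hχ⟩ := S.occ_n
  obtain ⟨θ, hθ⟩ := exists_restrict_constituent χ.2 K
  obtain ⟨e, he, hed⟩ := exists_ratio K χ θ hθ
  have he1 : e = 1 := by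
    obtain ⟨k, hk⟩ := hpg.exists_card_eq
    rw [Subgroup.index_eq_card, hk] at hed
    refine Nat.eq_one_of_dvd_coprimes ?_ hed (⟨_, hχ ▸ he⟩ : e ∣ n)
    exact Nat.Coprime.pow_left k ((hp.coprime_iff_not_dvd).2 hpn)
  rw [he1, one_mul] at he
  have hirr : IsIrrCharacter K (fun x : K => (χ : G → ℂ) x) := by
    rw [eq_of_constituent_degree (IsCharacter.restrict (irr_isCharacter χ) K) θ.2 hθ (by
      rw [OneMemClass.coe_one, irr_one_eq_charDegree, irr_one_eq_charDegree, he])]
    exact θ.2
  have hprod := (gallagher_one K (irr_isCharacter χ) hirr).1 β fun x => hβK x x.2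
  have hd : charDegree ((⟨_, hprod⟩ : IrrCharacter G) : G → ℂ) = m * n := deg_eq (by
    show (β : G → ℂ) 1 * (χ : G → ℂ) 1 = _
    rw [irr_one_eq_charDegree, irr_one_eq_charDegree, hβ, hχ, Nat.cast_mul])
  have hm := S.hm
  have hn := S.hn
  have h1 : m < m * n := lt_mul_of_one_lt_right (by omega) hn
  have h2 : n < m * n := lt_mul_of_one_lt_left (by omega) hm
  rcases S.cd ⟨_, hprod⟩ with h | h | h <;> rw [hd] at h <;> omega

/-- The case of a Frobenius quotient of index `m`. -/
theorem case_frob {L : Subgroup G} [L.Normal] [Fintype L] (S : Setup L m n a b) (ha : 1 < a)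
    (hb : 1 < b) (hG' : commutator G ≤ L) {K N : Subgroup G} [K.Normal] [N.Normal] {q : ℕ}
    (D : FrobData K N q) (hf : N.index = m) : derivedSeries G 3 = ⊥ := by
  classical
  haveI : Fintype N := Fintype.ofFinite N
  set T := N ⊓ L
  haveI : Fintype T := Fintype.ofFinite T
  have hcd : CD T b := by
    intro θ
    obtain ⟨φ, e, he, hed⟩ := exists_over_le T L inf_le_right θ
    rcases S.cd_below φ with h | h | h
    · rw [h] at he
      exact Or.inl (Nat.eq_one_of_mul_eq_one_left he.symm)
    · left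
      rw [h] at he
      have hθa : charDegree (θ : T → ℂ) ∣ m := (Dvd.intro_left e he.symm).trans S.dvd_m
      obtain ⟨η, e', he', hed'⟩ := exists_over_le T N inf_le_left θ
      rw [show T.relIndex N = L.relIndex N from Subgroup.inf_relIndex_left N L] at hed'
      have hqη : ¬ q ∣ charDegree (η : N → ℂ) := by
        rw [he']
        intro hd
        rcases D.prime.dvd_mul.1 hd with hd | hd
        · have h1 := S.idx q D.prime
            ((hd.trans hed').trans (Subgroup.relIndex_dvd_index_of_normal L N))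
          exact not_dvd_index D (hf ▸ h1.trans (Nat.gcd_dvd_left m n))
        · exact not_dvd_index D (hf ▸ hd.trans hθa)
      obtain ⟨χ, hχ⟩ := D.exists_mul_degree η hqη
      rw [hf] at hχ
      have hm := S.hm
      have hη : charDegree (η : N → ℂ) = 1 := by
        rcases S.cd χ with h' | h' | h' <;> rw [hχ] at h'
        · exact Nat.eq_one_of_mul_eq_one_left h'
        · exact (Nat.mul_eq_left (by omega)).1 h'
        · have h1 : a ∣ n := h' ▸ S.dvd_m.mul_right _
          exact absurd (Nat.eq_one_of_dvd_coprimes S.symm.cop_nb h1 dvd_rfl) (by omega)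
      rw [hη] at he'
      exact Nat.eq_one_of_mul_eq_one_left he'.symm
    · right
      rw [h] at he
      have he1 : e = 1 := by
        refine Nat.eq_one_of_dvd_coprimes S.cop_nb ?_ ⟨_, he⟩
        rw [show T.relIndex L = N.relIndex L from Subgroup.inf_relIndex_right N L] at hed
        exact hf ▸ hed.trans (Subgroup.relIndex_dvd_index_of_normal N L)
      rw [he, he1, one_mul]
  refine der_three_of_le (S := T) ?_ (commutator_abelian hcd hb)
  have h1 : derivedSeries G 1 ≤ T := by
    rw [derivedSeries_one]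
    exact le_inf D.comm_le hG'
  rw [derivedSeries_succ]
  exact Subgroup.commutator_mono h1 h1

/-- Both degrees below are non-linear. -/
theorem case_nonlinear {L : Subgroup G} [L.Normal] [Fintype L] (S : Setup L m n a b) (ha : 1 < a)
    (hb : 1 < b) : derivedSeries G 3 = ⊥ := by
  classical
  haveI : Fintype (G ⧸ L) := Fintype.ofFinite _
  have hG' : commutator G ≤ L := by
    have hlin : ∀ χ : IrrCharacter (G ⧸ L), (χ : G ⧸ L → ℂ) 1 = 1 := by
      intro χ
      set χ' := Cfsg.Agent.CharX.infl L χ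
      obtain ⟨θ, hθ⟩ := exists_restrict_constituent χ'.2 L
      have hθ1 : (θ : L → ℂ) 1 = 1 := by
        refine degree_one_of_commutators θ.2 fun x y => ?_
        refine Garrison.constituent_eq_one (IsCharacter.restrict (irr_isCharacter χ') L) θ.2 hθ ?_
        simpa [χ', Cfsg.Agent.CharX.infl] using congrArg (χ : G ⧸ L → ℂ)
          ((QuotientGroup.eq_one_iff ((x * y * x⁻¹ * y⁻¹ : L) : G)).2 (x * y * x⁻¹ * y⁻¹).2)
      rw [irr_one_eq_charDegree, ← Nat.cast_one (R := ℂ), Nat.cast_inj] at hθ1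
      obtain ⟨h1, h2, h3⟩ := S.below χ' θ hθ
      have h1' : charDegree (χ' : G → ℂ) = 1 := by
        rcases S.cd χ' with h | h | h
        · exact h
        · have := h2 h; omega
        · have := h3 h; omega
      have h4 : (χ' : G → ℂ) 1 = 1 := by rw [irr_one_eq_charDegree, h1', Nat.cast_one]
      simpa [χ', Cfsg.Agent.CharX.infl] using h4
    rw [commutator_def, Subgroup.commutator_le]
    intro x _ y _
    refine (QuotientGroup.eq_one_iff ⁅x, y⁆).1 ?_
    show ⁅QuotientGroup.mk' L x, QuotientGroup.mk' L y⁆ = 1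
    exact commutatorElement_eq_one_iff_mul_comm.2 (commute_of_all_linear hlin _ _)
  have hab : a.Coprime b := S.cop_nb.coprime_dvd_left S.dvd_m
  by_cases hperf : commutator G ≤ derivedSeries G 2
  · exfalso
    rw [derivedSeries_succ, derivedSeries_one] at hperf
    have hmap : (commutator L).map L.subtype = commutator G := by
      rw [commutator_def, Subgroup.map_commutator, ← MonoidHom.range_eq_map,
        Subgroup.range_subtype]
      exact le_antisymm (by rw [commutator_def]; exact Subgroup.commutator_mono le_top le_top)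
        (hperf.trans (Subgroup.commutator_mono hG' hG'))
    have hL : ⁅commutator L, commutator L⁆ = commutator L := by
      refine Subgroup.map_injective L.subtype_injective ?_
      rw [Subgroup.map_commutator, hmap]
      exact le_antisymm (Subgroup.commutator_le_self _) hperf
    have hbot := commutator_eq_bot_of_perfect ha hb hab S.cd_below hL
    obtain ⟨χ, hχ⟩ := S.occ_m
    obtain ⟨θ, hθ⟩ := exists_restrict_constituent χ.2 L
    have hd := (S.below χ θ hθ).2.1 hχ
    have h1 := degree_one_of_comm (G := L) (fun x y => commutatorElement_eq_one_iff_mul_comm.1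
      (Subgroup.mem_bot.1 (hbot ▸ Subgroup.commutator_mem_commutator (Subgroup.mem_top x)
        (Subgroup.mem_top y)))) θ.2
    rw [irr_one_eq_charDegree, hd, ← Nat.cast_one (R := ℂ), Nat.cast_inj] at h1
    omega
  rcases dichotomy_metabelian hperf with ⟨K, hK, p, hp, hpg, β, hβK, hβ1⟩ | ⟨K, N, hK, hN, q, D⟩
  · exfalso
    rcases (S.cd β).resolve_left hβ1 with h | h
    · exact case_pgroup S ha K hp hpg β hβK h
    · exact case_pgroup S.symm hb K hp hpg β hβK h
  · haveI : Fintype N := Fintype.ofFinite N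
    obtain ⟨χ, hχ⟩ := D.exists_mul_degree (principal N)
      (by rw [charDegree_principal]; exact fun hd => D.prime.ne_one (Nat.dvd_one.1 hd))
    rw [charDegree_principal, mul_one] at hχ
    rcases (S.cd χ).resolve_left (hχ ▸ D.index_ne) with h | h
    · exact case_frob S ha hb hG' D (hχ ▸ h)
    · exact case_frob S.symm hb ha hG' D (hχ ▸ h)

/-- Three character degrees force derived length at most three. -/
theorem derived_three {m n : ℕ} (hcd : CD3 G m n) (hm : 1 < m) (hn : 1 < n) (hne : m ≠ n)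
    (hom : ∃ χ : IrrCharacter G, charDegree (χ : G → ℂ) = m)
    (hon : ∃ χ : IrrCharacter G, charDegree (χ : G → ℂ) = n) : derivedSeries G 3 = ⊥ := by
  classical
  obtain ⟨L, hLn, hcop, hcopi, hidx, hnil⟩ := exists_hall3 hcd (by omega : m ≠ 0)
  haveI : Fintype L := Fintype.ofFinite L
  have huniq : ∀ (χ χ' : IrrCharacter G) (θ θ' : IrrCharacter L),
      charDegree (χ : G → ℂ) = charDegree (χ' : G → ℂ) →
      classInner (fun x : L => (χ : G → ℂ) x) (θ : L → ℂ) ≠ 0 →
      classInner (fun x : L => (χ' : G → ℂ) x) (θ' : L → ℂ) ≠ 0 →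
      charDegree (θ : L → ℂ) = charDegree (θ' : L → ℂ) := by
    intro χ χ' θ θ' hd h h'
    obtain ⟨k, hk, hki⟩ := exists_ratio L χ θ h
    obtain ⟨k', hk', hki'⟩ := exists_ratio L χ' θ' h'
    have he : k * charDegree (θ : L → ℂ) = k' * charDegree (θ' : L → ℂ) := by
      rw [← hk, ← hk', hd]
    have hc : ∀ (η : IrrCharacter L) (j : ℕ), j ∣ L.index → (charDegree (η : L → ℂ)).Coprime j :=
      fun η j hj => (hcopi.coprime_dvd_left (charDegree_dvd_card η)).coprime_dvd_right hj
    exact Nat.dvd_antisymm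
      ((hc θ k' hki').dvd_of_dvd_mul_left (he ▸ dvd_mul_left _ _))
      ((hc θ' k hki).dvd_of_dvd_mul_left (he ▸ dvd_mul_left _ _))
  obtain ⟨χm, hχm⟩ := hom
  obtain ⟨χn, hχn⟩ := hon
  obtain ⟨θm, hθm⟩ := exists_restrict_constituent χm.2 L
  obtain ⟨θn, hθn⟩ := exists_restrict_constituent χn.2 L
  set a := charDegree (θm : L → ℂ)
  set b := charDegree (θn : L → ℂ)
  have S : Setup L m n a b := by
    refine ⟨hm, hn, hne, hcd, ⟨χm, hχm⟩, ⟨χn, hχn⟩, hcop, hidx, ?_, ?_, charDegree_dvd_card θm,
      charDegree_dvd_card θn, fun χ θ h => ⟨fun hd => ?_, fun hd => ?_, fun hd => ?_⟩⟩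
    · obtain ⟨k, hk, -⟩ := exists_ratio L χm θm hθm
      exact Dvd.intro_left k (hk.symm.trans hχm)
    · obtain ⟨k, hk, -⟩ := exists_ratio L χn θn hθn
      exact Dvd.intro_left k (hk.symm.trans hχn)
    · obtain ⟨k, hk, -⟩ := exists_ratio L χ θ h
      exact Nat.eq_one_of_mul_eq_one_left (hk.symm.trans hd)
    · exact huniq χ χm θ θm (hd.trans hχm.symm) h hθm
    · exact huniq χ χn θ θn (hd.trans hχn.symm) h hθn
  have ha0 : 0 < a := charDegree_pos θm
  have hb0 : 0 < b := charDegree_pos θn
  rcases Nat.lt_or_ge 1 a with ha | ha <;> rcases Nat.lt_or_ge 1 b with hb | hb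
  · exact case_nonlinear S ha hb
  · exact case_one_linear S.symm (by omega) ha
  · exact case_one_linear S (by omega) hb
  · have hab : ∀ x ∈ L, ∀ y ∈ L, x * y = y * x := by
      intro x hx y hy
      refine congrArg Subtype.val (commute_of_all_linear (H := L) (fun θ => ?_) ⟨x, hx⟩ ⟨y, hy⟩)
      rw [irr_one_eq_charDegree]
      rcases S.cd_below θ with h | h | h <;>
        exact_mod_cast (by omega : charDegree (θ : L → ℂ) = 1)
    have hM : ∀ χ : G → ℂ, IsIrrCharacter G χ →
        ∃ (H : Subgroup G) (lam : H →* ℂˣ), χ = indFun H (fun h => (lam h : ℂ)) :=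
      fun χ hχ => exists_monomial_of_hall L hab hcopi hχ
    rcases lt_or_gt_of_ne hne with h | h
    · exact derived_three_of_monomial hcd hm h hM
    · exact derived_three_of_monomial hcd.swap hn h hM

end Cfsg.Agent.ThreeDeg
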